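import Mathlib
import Cfsg.Agent.Spor.Comp.Range
import Cfsg.Agent.Spor.MX.Glue2

/-!
Embedding a simple group given by relators with an order bound.
-/

set_option autoImplicit false

namespace Cfsg.Agent.Spor

open Subgroup

/-- If the relators bound the order by that of the simple group `J`, then nontrivial letters of `G` that satisfy the
relators give an embedding of `J`. -/
theorem exists_inj_of_gen {J G : Type*} [Group J] [Group G] [IsSimpleGroup J] {g' : ℕ → J} {g : ℕ → G} {rels : LT}
    {m N : ℕ} (hJ : MX.Gen ⊤ g' rels m N) (hb : ∀ k : ℕ → G × J, (∀ i, evalW k (rels.get i) = 1) → MX.Bnd k m N)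
    (h : ∀ i, evalW g (rels.get i) = 1) {x : ℕ} (hx : x < m) (h1 : g x ≠ 1) :
    ∃ ψ : J →* G, Function.Injective ψ ∧ ∀ y < m, ψ (g' y) = g y := by
  set D := genLt (fun x => (g x, g' x)) m
  have h2 : MX.Bnd (fun x => (g x, g' x)) m N := hb _ fun i => Prod.ext
    ((map_evalW (MonoidHom.fst G J) (fun x => (g x, g' x)) _).trans (h i))
    ((map_evalW (MonoidHom.snd G J) (fun x => (g x, g' x)) _).trans (hJ.2.1 i))
  have : Finite D := Nat.finite_of_card_ne_zero h2.1
  let f : D →* J := (MonoidHom.snd _ _).comp D.subtype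
  have h3 : Function.Surjective f := by
    rw [← MonoidHom.range_eq_top, eq_top_iff, ← hJ.1]
    exact genLt_le fun x hx => ⟨⟨_, mem_genLt _ hx⟩, rfl⟩
  let F := MulEquiv.ofBijective f (h3.bijective_of_nat_card_le (by
    rw [← card_top (G := J), hJ.2.2]; exact h2.2))
  let ψ : J →* G := ((MonoidHom.fst _ _).comp D.subtype).comp F.symm.toMonoidHom
  have h4 : ∀ y < m, ψ (g' y) = g y := fun y hy => by
    have h5 : F ⟨_, mem_genLt _ hy⟩ = g' y := rfl
    rw [← h5]
    simp [ψ]
  refine ⟨ψ, ?_, h4⟩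
  rw [← MonoidHom.ker_eq_bot_iff]
  refine ψ.normal_ker.eq_bot_or_eq_top.resolve_right fun h5 => h1 ?_
  rw [← h4 x hx]
  exact (h5 ▸ mem_top _ : _ ∈ ψ.ker)

/-- A simple subgroup of the image of a faithful representation. -/
theorem exists_simple_in_range {J G P : Type*} [Group J] [Group G] [Group P] {ψ : J →* G} (hψ : Function.Injective ψ)
    {φ : G →* P} (hφ : Function.Injective φ) {c : ℕ} (h : IsSimpleGroup J ∧ Nat.card J = c) :
    ∃ K : Subgroup φ.range, IsSimpleGroup K ∧ Nat.card K = c :=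
  ⟨_, simple_range (φ.rangeRestrict.comp ψ) ((MonoidHom.ofInjective hφ).injective.comp hψ) h⟩

end Cfsg.Agent.Spor
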